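import Cfsg.Agent.Lib.U62Mult.Twist
import Cfsg.Agent.Lib.Schur.FibreProduct

/-!
A stem extension of `PSU₆(2)` with kernel of order four: the fibre product of the double cover in
`Fi₂₂` with its twist.  Two pairs of commuting elements of the fibre product have commutators
generating the kernel.
-/

set_option autoImplicit false
set_option maxRecDepth 20000

namespace Cfsg.Agent.U62Mult

open Cfsg.Spor Cfsg.Agent.Presented FiIndex
open Cfsg.Agent.Presented.FiU6Iso (PU pu hu fu uWord same)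
open scoped commutatorElement

/-- The first element of the first pair. -/
def uA : List Twin :=
  [((0, [1, 2, 3, 4, 5, 1, 2, 6, 7, 3, 2, 1, 4, 5]), (0, [1, 2, 3, 4, 5, 1, 2, 6, 7, 3, 2, 1, 4, 5]), 1),
   ((0, [1, 2, 3, 5, 7, 6]), (0, [1, 2, 3, 4, 5, 1, 2, 3, 6, 5, 7, 3, 2, 4]), 3),
   ((0, [1, 2, 3, 4, 5, 7, 3, 2, 6, 5, 1, 2, 3, 7]), (0, [1, 2, 3, 4, 5, 1, 6, 7, 3, 2, 1, 0, 4, 3, 7]), 3)]

/-- The second element of the first pair. -/
def vA : List Twin :=
  [((4, []), (4, []), 1),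
   ((0, [1, 2, 5, 6, 7, 3, 2, 4, 3]), (1, [2, 3, 4, 5, 6, 7, 3, 2, 6, 5]), 3),
   ((0, []), (1, [2]), 1),
   ((0, [1, 2, 3, 4, 5, 1, 2, 3]), (0, [1, 2, 3, 4, 5, 1, 2, 3]), 1)]

/-- The first element of the second pair. -/
def uB : List Twin :=
  [((0, [1, 2, 3, 4, 5, 1, 2, 6, 7, 3, 2, 1, 4, 5]), (0, [1, 2, 3, 4, 5, 1, 2, 6, 7, 3, 2, 1, 4, 5]), 1),
   ((0, [1, 2, 3, 4, 5, 1, 2, 3, 6, 5, 7, 3, 2, 4]), (0, [1, 2, 3, 4, 5, 1, 2, 6, 5, 7, 3, 2, 1, 5]), 1),
   ((0, [1, 2, 3, 4, 5, 1, 6, 7, 3, 2, 1, 0, 4, 3, 7]), (0, [1, 2, 3, 4, 5, 1, 6, 7, 3, 6, 5, 1, 7]), 2)]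

/-- The second element of the second pair. -/
def vB : List Twin :=
  [((4, []), (4, []), 1),
   ((1, [2, 3, 4, 5, 6, 7, 3, 2, 6, 5]), (0, [1, 2, 3, 4, 5, 6, 7, 3, 6, 5, 1, 2]), 3),
   ((1, [2]), (0, [1, 2]), 2),
   ((0, [1, 2, 3, 4, 5, 1, 2, 3]), (0, [1, 2, 3, 4, 5, 1, 2, 3]), 1)]

/-- The letters of a word are below eight. -/
noncomputable def wordOK (w : List ℕ) : Bool := w.all fun g => decide (g < 8)

theorem words_ok : (uA.all twinOK && vA.all twinOK && uB.all twinOK && vB.all twinOK) = true := by decide +kernel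

theorem letters_ok : ([srcWord uA, dstWord uA, srcWord vA, dstWord vA, srcWord uB, dstWord uB, srcWord vB, dstWord vB].all
    wordOK) = true := by decide +kernel

/-- Two words in the transpositions have the same value. -/
noncomputable def sameU (u v : List ℕ) : Bool := same (u.map uWord).flatten (v.map uWord).flatten

theorem hu_eq_of_sameU {u v : List ℕ} (h : sameU u v = true) : wval hu u = wval hu v := by
  refine Subtype.ext ?_
  rw [FiU6Iso.coe_wval_hu, FiU6Iso.coe_wval_hu, FiU6Iso.wval_fu, FiU6Iso.wval_fu]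
  exact FiU6Iso.eq_of_same h

theorem comm_ok :
    (sameU (dstWord uA ++ dstWord vA) (dstWord vA ++ dstWord uA) &&
      sameU (srcWord uA ++ srcWord vA) (srcWord vA ++ srcWord uA ++ FiU6Data.aWord) &&
      sameU (dstWord uB ++ dstWord vB) (dstWord vB ++ dstWord uB ++ FiU6Data.aWord) &&
      sameU (srcWord uB ++ srcWord vB) (srcWord vB ++ srcWord uB)) = true := by decide +kernel

theorem commute_of_word {u v : List ℕ} (h : sameU (u ++ v) (v ++ u) = true) :
    ⁅wval hu v, wval hu u⁆ = 1 := by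
  have := hu_eq_of_sameU h
  rw [wval_append, wval_append] at this
  exact commutatorElement_eq_one_iff_mul_comm.2 this

theorem comm_of_word {u v : List ℕ} (h : sameU (u ++ v) (v ++ u ++ FiU6Data.aWord) = true) :
    ⁅wval hu v, wval hu u⁆ = wval hu FiU6Data.aWord := by
  have := hu_eq_of_sameU h
  rw [wval_append, wval_append, wval_append] at this
  rw [commutatorElement_def, this]
  group

/-- A stem extension with kernel of order four. -/
theorem exists_four : ∃ (Γ : Type) (_ : Group Γ) (_ : Finite Γ) (σ : Γ →* PU),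
    Cfsg.IsStemExtension σ ∧ Nat.card σ.ker = 4 ∧ ∀ x ∈ σ.ker, x ^ 2 = 1 := by
  obtain ⟨φ, hφ, hφw⟩ := FiU6Iso.exists_hom
  haveI : Finite Fi22 := FiOrder.card_le.1
  have hval : ∀ w, wordOK w = true → φ (wval hu w) = wval pu w := fun w hw => by
    have h : wval fu w ∈ hSub := FiU6Iso.coe_wval_hu _ ▸ (wval hu w).2
    rw [show wval hu w = ⟨_, h⟩ from Subtype.ext (FiU6Iso.coe_wval_hu w)]
    refine hφw w (fun g hg => ?_) h
    simpa [wordOK] using List.all_eq_true.1 hw g hg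
  set a := wval hu FiU6Data.aWord with ha
  have hak : a ∈ φ.ker := by
    rw [MonoidHom.mem_ker, hval _ (by decide +kernel)]
    exact FiU6Iso.pu_word (by simp)
  have ha1 : a ≠ 1 := fun h => FiU6Iso.gen0_ne_one (by
    have := congrArg Subtype.val h
    rwa [FiU6Iso.coe_wval_hu, FiU6Iso.fu_aWord] at this)
  have hker : Nat.card φ.ker = 2 := by
    have h := φ.ker.index_mul_card
    rw [Subgroup.index_ker, MonoidHom.range_eq_top.2 hφ, Subgroup.card_top, FiU6Iso.card_PU,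
      FiOrder.card_hSub] at h
    omega
  have hcases : ∀ x ∈ φ.ker, x = 1 ∨ x = a := by
    intro x hx
    obtain ⟨p, q, hpq, huniv⟩ := Nat.card_eq_two_iff.1 hker
    have hmem : ∀ z : φ.ker, z = p ∨ z = q := fun z => by
      have : z ∈ ({p, q} : Set φ.ker) := huniv ▸ Set.mem_univ z
      simpa using this
    rcases hmem ⟨x, hx⟩ with h1 | h1 <;> rcases hmem ⟨a, hak⟩ with h2 | h2 <;> rcases hmem 1 with h3 | h3
    all_goals first
      | exact Or.inl (congrArg Subtype.val (h1.trans h3.symm))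
      | exact Or.inr (congrArg Subtype.val (h1.trans h2.symm))
      | exact absurd (congrArg Subtype.val (h2.trans h3.symm)) ha1
  have hsq : ∀ x ∈ φ.ker, x * x = 1 := fun x hx => by
    rcases hcases x hx with rfl | rfl
    · rw [one_mul]
    · rcases hcases (a * a) (mul_mem hak hak) with h | h
      · exact h
      · exact absurd (mul_eq_left.1 h) ha1
  have hcentral : ∀ x ∈ φ.ker, ∀ g, g * x = x * g := fun x hx g => by
    rcases hcases x hx with rfl | rfl
    · rw [mul_one, one_mul]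
    · rcases hcases (g * a * g⁻¹) ((inferInstance : φ.ker.Normal).conj_mem _ hak g) with h | h
      · exact absurd (conj_eq_one_iff.1 h) ha1
      · exact mul_inv_eq_iff_eq_mul.1 h
  let β : hSub →* PU := tw.toMonoidHom.comp φ
  have hβ : Function.Surjective β := tw.surjective.comp hφ
  let Φ := Schur.fibre φ β
  let σ : Φ →* PU := φ.comp (Schur.fibreFst φ β)
  have hmemker : ∀ x : Φ, x ∈ σ.ker ↔ (x : hSub × hSub).1 ∈ φ.ker ∧ (x : hSub × hSub).2 ∈ φ.ker := fun x => by
    refine ⟨fun h => ⟨h, ?_⟩, fun h => h.1⟩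
    have h1 := Schur.mem_fibre.1 x.2
    rw [show φ (x : hSub × hSub).1 = 1 from h] at h1
    exact (map_eq_one_iff _ tw.injective).1 h1.symm
  have h1 := words_ok
  simp only [Bool.and_eq_true] at h1
  obtain ⟨⟨⟨huA, hvA⟩, huB⟩, hvB⟩ := h1
  have h2 := letters_ok
  simp only [List.all_cons, List.all_nil, Bool.and_eq_true, and_true] at h2
  obtain ⟨l1, l2, l3, l4, l5, l6, l7, l8⟩ := h2
  have mem : ∀ L : List Twin, L.all twinOK = true → wordOK (srcWord L) = true → wordOK (dstWord L) = true →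
      (wval hu (dstWord L), wval hu (srcWord L)) ∈ Φ := fun L hL hs hd => by
    refine Schur.mem_fibre.2 ?_
    show φ (wval hu (dstWord L)) = tw (φ (wval hu (srcWord L)))
    rw [hval _ hd, hval _ hs, tw_word L hL]
  have h3 := comm_ok
  simp only [Bool.and_eq_true] at h3
  obtain ⟨⟨⟨c1, c2⟩, c3⟩, c4⟩ := h3
  have e1 : ∃ z ∈ _root_.commutator Φ, (z : hSub × hSub) = (1, a) :=
    ⟨⁅(⟨_, mem vA hvA l3 l4⟩ : Φ), ⟨_, mem uA huA l1 l2⟩⁆,
      Subgroup.commutator_mem_commutator (Subgroup.mem_top _) (Subgroup.mem_top _),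
      Prod.ext (commute_of_word c1) (comm_of_word c2)⟩
  have e2 : ∃ z ∈ _root_.commutator Φ, (z : hSub × hSub) = (a, 1) :=
    ⟨⁅(⟨_, mem vB hvB l7 l8⟩ : Φ), ⟨_, mem uB huB l5 l6⟩⁆,
      Subgroup.commutator_mem_commutator (Subgroup.mem_top _) (Subgroup.mem_top _),
      Prod.ext (comm_of_word c3) (commute_of_word c4)⟩
  obtain ⟨z1, hz1, ez1⟩ := e1
  obtain ⟨z2, hz2, ez2⟩ := e2
  refine ⟨Φ, inferInstance, inferInstance, σ, ⟨hφ.comp (Schur.fibreFst_surjective φ hβ), fun x hx => ?_, fun x hx => ?_⟩,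
    ?_, fun x hx => ?_⟩
  · obtain ⟨k1, k2⟩ := (hmemker x).1 hx
    exact Subgroup.mem_center_iff.2 fun g => Subtype.ext (Prod.ext (hcentral _ k1 _) (hcentral _ k2 _))
  · obtain ⟨k1, k2⟩ := (hmemker x).1 hx
    rcases hcases _ k1 with h1 | h1 <;> rcases hcases _ k2 with h2 | h2
    · rw [show x = 1 from Subtype.ext (Prod.ext h1 h2)]; exact one_mem _
    · rw [show x = z1 from Subtype.ext ((Prod.ext h1 h2).trans ez1.symm)]; exact hz1
    · rw [show x = z2 from Subtype.ext ((Prod.ext h1 h2).trans ez2.symm)]; exact hz2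
    · rw [show x = z2 * z1 from Subtype.ext (by
        rw [Subgroup.coe_mul, ez1, ez2, Prod.mk_mul_mk, one_mul, mul_one]; exact Prod.ext h1 h2)]
      exact mul_mem hz2 hz1
  · let e : σ.ker ≃ φ.ker × φ.ker :=
      { toFun := fun x => (⟨_, ((hmemker x.1).1 x.2).1⟩, ⟨_, ((hmemker x.1).1 x.2).2⟩)
        invFun := fun y => ⟨⟨(y.1.1, y.2.1), Schur.mem_fibre.2 (by
          show φ y.1.1 = tw (φ y.2.1)
          rw [MonoidHom.mem_ker.1 y.1.2, MonoidHom.mem_ker.1 y.2.2, map_one])⟩, (hmemker _).2 ⟨y.1.2, y.2.2⟩⟩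
        left_inv := fun x => rfl
        right_inv := fun y => rfl }
    rw [Nat.card_congr e, Nat.card_prod, hker]
  · obtain ⟨k1, k2⟩ := (hmemker x).1 hx
    refine Subtype.ext ?_
    rw [Subgroup.coe_pow, sq]
    exact Prod.ext (hsq _ k1) (hsq _ k2)

end Cfsg.Agent.U62Mult
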