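import Cfsg.Agent.Lib.U62Mult.Cover
import Cfsg.Agent.Lib.Schur.Unitary.SixTwoPSU
import Cfsg.Agent.Lib.Transpos.SUThreeTwo
import Mathlib.FieldTheory.Finite.GaloisField

/-!
The Schur multiplier of `PSU₆(2)`.
-/

set_option autoImplicit false
set_option linter.style.haveILetI false

namespace Cfsg.Agent.U62Mult

open Subgroup
open Cfsg.Agent.Presented.FiU6 (K hK SU6)
open Cfsg.Agent.Presented.FiU6Iso (PU)

universe u

/-- A stem extension with kernel of order twelve. -/
theorem exists_twelve : ∃ (Γ : Type) (_ : Group Γ) (_ : Finite Γ) (σ : Γ →* PU),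
    Cfsg.IsStemExtension σ ∧ Nat.card σ.ker = 12 := by
  obtain ⟨A, _, _, α, hα, hA, hA2⟩ := exists_four
  let β : SU6 →* PU := QuotientGroup.mk' (center SU6)
  have hperf : _root_.commutator SU6 = ⊤ := ClassicalSimple.SU_perfect hK (by norm_num) (by omega)
  have hβ : Cfsg.IsStemExtension β :=
    ⟨QuotientGroup.mk'_surjective _, by rw [QuotientGroup.ker_mk'], by rw [hperf]; exact le_top⟩
  have hB : Nat.card β.ker = 3 := by
    rw [QuotientGroup.ker_mk', Forms.card_center_SU hK (by norm_num)]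
    norm_num
  obtain ⟨hst, ⟨e⟩⟩ := Schur.isStemExtension_fibre hα hβ (m := 2) (n := 3) (by norm_num)
    hA2 (fun b hb => by
      have := congrArg Subtype.val (pow_card_eq_one' (x := (⟨b, hb⟩ : β.ker)))
      rwa [hB, Subgroup.coe_pow] at this)
  refine ⟨_, inferInstance, inferInstance, _, hst, ?_⟩
  rw [Nat.card_congr e.toEquiv, Nat.card_prod, hA, hB]

/-- The Schur multiplier of `PSU₆(2)`. -/
theorem hasSchurMultiplier {F : Type u} [Field F] [Fintype F] (hF : Fintype.card F = 4) :
    Cfsg.HasSchurMultiplier (Cfsg.PSU 6 F 2) (Multiplicative (ZMod 3 × ZMod 2 × ZMod 2)) := by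
  have hF' : Fintype.card F = 2 ^ 2 := hF.trans (by norm_num)
  refine ⟨?_, fun Γ _ _ σ hσ => Schur.Unitary.exists_surjective_psu_six hF' σ hσ⟩
  obtain ⟨M0, _, _, σ0, hst, hcard⟩ := exists_twelve
  obtain ⟨f⟩ : Nonempty (K ≃+* F) :=
    ⟨FiniteField.ringEquivOfCardEq (K := K) (K' := F) (hK.trans hF'.symm)⟩
  let φ := Transpos.SU32.suMap f 6 2
  have hmap : (center SU6).map φ.toMonoidHom = center (Cfsg.SU 6 F 2) := by
    refine le_antisymm (Subgroup.map_le_iff_le_comap.2 fun z hz => mem_center_iff.2 fun w => ?_) fun z hz => ?_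
    · obtain ⟨w, rfl⟩ := φ.surjective w
      show φ w * φ z = φ z * φ w
      rw [← map_mul, ← map_mul, mem_center_iff.1 hz w]
    · refine ⟨φ.symm z, mem_center_iff.2 fun w => ?_, φ.apply_symm_apply z⟩
      apply φ.injective
      rw [map_mul, map_mul, φ.apply_symm_apply, mem_center_iff.1 hz]
  let e : PU ≃* Cfsg.PSU 6 F 2 := QuotientGroup.congr _ _ φ hmap
  let d : ULift.{u} M0 ≃* M0 := MulEquiv.ulift
  let σ : ULift.{u} M0 →* Cfsg.PSU 6 F 2 := e.toMonoidHom.comp (σ0.comp d.toMonoidHom)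
  have hker : ∀ x, x ∈ σ.ker ↔ d x ∈ σ0.ker := fun x => e.map_eq_one_iff
  have hσ : Cfsg.IsStemExtension σ := by
    refine ⟨e.surjective.comp (hst.1.comp d.surjective), fun x hx => ?_, fun x hx => ?_⟩
    · exact mem_center_iff.2 fun g => d.injective (by
        rw [map_mul, map_mul]
        exact mem_center_iff.1 (hst.2.1 ((hker x).1 hx)) _)
    · have h1 := hst.2.2 ((hker x).1 hx)
      have h2 : (_root_.commutator M0).map d.symm.toMonoidHom ≤ _root_.commutator (ULift.{u} M0) := by
        rw [_root_.commutator_def, _root_.commutator_def, Subgroup.map_commutator]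
        exact commutator_mono le_top le_top
      exact h2 ⟨d x, h1, d.symm_apply_apply x⟩
  obtain ⟨π, hπ⟩ := Schur.Unitary.exists_surjective_psu_six hF' σ hσ
  refine ⟨_, inferInstance, inferInstance, σ, hσ, ⟨(MulEquiv.ofBijective π (hπ.bijective_of_nat_card_le ?_)).symm⟩⟩
  let k : σ0.ker → σ.ker := fun y => ⟨d.symm y, (hker _).2 (by rw [d.apply_symm_apply]; exact y.2)⟩
  rw [Nat.card_congr Multiplicative.toAdd, Nat.card_prod, Nat.card_prod, Nat.card_zmod, Nat.card_zmod]
  exact hcard.ge.trans (Nat.card_le_card_of_injective k fun y y' h =>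
    Subtype.ext (d.symm.injective (congrArg Subtype.val h)))

end Cfsg.Agent.U62Mult
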