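import Cfsg.Agent.Lib.Presented.FiU6Iso

/-!
A diagonal automorphism of `PSU₆(2)` outside the inner ones, on words in the eight transvections:
conjugated generators go to conjugated generators at the twisted vectors.
-/

set_option autoImplicit false
set_option maxRecDepth 20000

namespace Cfsg.Agent.U62Mult

open Matrix Cfsg.Agent.Presented
open Cfsg.Agent.Presented.FiU6 (K hK SU6 toM tm uS vec code v8)
open Cfsg.Agent.Presented.FiU6Iso (PU pu)

/-- The diagonal of the twist. -/
def dv (i : Fin 6) : K := if i = 0 then ⟨2⟩ else 1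

theorem dv_cube : ∀ i, dv i * dv i ^ 2 = 1 := by decide +kernel

/-- Twisting a vector. -/
def twv (x : Fin 6 → K) : Fin 6 → K := fun i => dv i * x i

/-- The matrix of the twist. -/
def DM : Matrix (Fin 6) (Fin 6) K := Matrix.diagonal dv

/-- The inverse of the matrix of the twist. -/
def DN : Matrix (Fin 6) (Fin 6) K := Matrix.diagonal fun i => dv i ^ 2

theorem DM_DN : DM * DN = 1 := by
  rw [DM, DN, Matrix.diagonal_mul_diagonal, show (fun i => dv i * dv i ^ 2) = fun _ => 1 from funext dv_cube,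
    Matrix.diagonal_one]

theorem DN_DM : DN * DM = 1 := mul_eq_one_comm.1 DM_DN

theorem DM_mulVec (x : Fin 6 → K) : DM *ᵥ x = twv x := funext fun i => Matrix.mulVec_diagonal _ _ _

theorem herm_twv (x y : Fin 6 → K) : Cfsg.hermForm 6 K 2 (twv x) (twv y) = Cfsg.hermForm 6 K 2 x y := by
  simp only [Cfsg.hermForm, twv]
  refine Finset.sum_congr rfl fun i _ => ?_
  linear_combination (x i * y i ^ 2) * dv_cube i

/-- The twist on `SU₆(2)`. -/
def twSU : SU6 →* SU6 where
  toFun A := ⟨⟨DM * A.1.1 * DN, by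
    rw [Matrix.det_mul, Matrix.det_mul, A.1.2, mul_one, ← Matrix.det_mul, DM_DN, Matrix.det_one]⟩, fun u v => by
    show Cfsg.hermForm 6 K 2 ((DM * A.1.1 * DN) *ᵥ u) ((DM * A.1.1 * DN) *ᵥ v) = _
    have hu : u = twv (DN *ᵥ u) := by rw [← DM_mulVec, Matrix.mulVec_mulVec, DM_DN, Matrix.one_mulVec]
    have hv : v = twv (DN *ᵥ v) := by rw [← DM_mulVec, Matrix.mulVec_mulVec, DM_DN, Matrix.one_mulVec]
    simp only [← Matrix.mulVec_mulVec, DM_mulVec]
    rw [herm_twv, show Cfsg.hermForm 6 K 2 (A.1.1 *ᵥ (DN *ᵥ u)) (A.1.1 *ᵥ (DN *ᵥ v)) = _ from A.2 _ _]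
    conv_rhs => rw [hu, hv, herm_twv]⟩
  map_one' := Subtype.ext (Subtype.ext (by
    show DM * 1 * DN = 1
    rw [Matrix.mul_one, DM_DN]))
  map_mul' A B := Subtype.ext (Subtype.ext (by
    show DM * (A.1.1 * B.1.1) * DN = (DM * A.1.1 * DN) * (DM * B.1.1 * DN)
    have e : DN * (DM * B.1.1) = B.1.1 := by rw [← Matrix.mul_assoc, DN_DM, Matrix.one_mul]
    rw [show (DM * A.1.1 * DN) * (DM * B.1.1 * DN) = DM * A.1.1 * (DN * (DM * B.1.1)) * DN by
      simp only [Matrix.mul_assoc], e, ← Matrix.mul_assoc DM A.1.1]))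

theorem toM_twSU (A : SU6) : toM (twSU A) = DM * toM A * DN := rfl

theorem twSU_bijective : Function.Bijective twSU := by
  refine Finite.injective_iff_bijective.1 fun A B e => FiU6.toM_injective ?_
  have := congrArg toM e
  rw [toM_twSU, toM_twSU] at this
  have h2 := congrArg (fun M => DN * M * DM) this
  simpa [← Matrix.mul_assoc, DN_DM, Matrix.mul_assoc _ DN DM] using h2

/-- The twist as an automorphism. -/
noncomputable def twEquiv : SU6 ≃* SU6 := MulEquiv.ofBijective twSU twSU_bijective

/-- The twist on `PSU₆(2)`. -/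
noncomputable def tw : PU ≃* PU :=
  QuotientGroup.congr _ _ twEquiv (by
    refine le_antisymm (Subgroup.map_le_iff_le_comap.2 fun z hz => Subgroup.mem_center_iff.2 fun w => ?_)
      fun z hz => ⟨twEquiv.symm z, Subgroup.mem_center_iff.2 fun w => twEquiv.injective ?_, twEquiv.apply_symm_apply z⟩
    · obtain ⟨w, rfl⟩ := twEquiv.surjective w
      show twEquiv w * twEquiv z = twEquiv z * twEquiv w
      rw [← map_mul, ← map_mul, Subgroup.mem_center_iff.1 hz w]
    · rw [map_mul, map_mul, twEquiv.apply_symm_apply, Subgroup.mem_center_iff.1 hz])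

theorem tw_mk (A : SU6) : tw (QuotientGroup.mk' _ A) = QuotientGroup.mk' _ (twSU A) := rfl

theorem tw_tm (v : Fin 6 → K) : DM * tm v * DN = tm (twv v) := by
  ext i j
  rw [DM, DN, Matrix.mul_diagonal, Matrix.diagonal_mul]
  simp only [tm, Cfsg.unitaryTransvection, Matrix.add_apply, Matrix.smul_apply, Matrix.vecMulVec_apply, smul_eq_mul,
    twv, one_mul, mul_pow]
  by_cases h : i = j
  · subst h
    rw [Matrix.one_apply_eq]
    linear_combination dv_cube i
  · rw [Matrix.one_apply_ne h]
    ring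

/-! ## Conjugated generators -/

/-- One step of a walk on codes of vectors. -/
def stepC (g x : ℕ) : ℕ := code (vec x + Cfsg.hermForm 6 K 2 (vec x) (v8 g) • v8 g)

/-- A walk on codes of vectors. -/
noncomputable def run : List ℕ → ℕ → ℕ :=
  fun w => List.rec (motive := fun _ => ℕ → ℕ) (fun x => x) (fun g _ ih x => force (stepC g x) ih) w

theorem run_cons (g : ℕ) (w : List ℕ) (x : ℕ) : run (g :: w) x = run w (stepC g x) := force_eq _ _

theorem run_spec : ∀ (w : List ℕ), (∀ g ∈ w, g < 8) → ∀ x, toM (wval uS w) *ᵥ vec x = vec (run w x) := by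
  intro w
  induction w with
  | nil => intro _ x; rw [wval, map_one, Matrix.one_mulVec]; rfl
  | cons g w ih =>
    intro hw x
    have hg := hw g List.mem_cons_self
    rw [run_cons, wval, map_mul, ← Matrix.mulVec_mulVec, show toM (uS g) = tm (v8 g) by
        simp only [uS, dif_pos hg]; rfl,
      ← ih (fun a ha => hw a (List.mem_cons_of_mem _ ha)), stepC, (FiU6.vec_code _).1, FiU6.tm_mulVec,
      Forms.hermB_apply]

theorem uS_sq (g : ℕ) : uS g * uS g = 1 := by
  by_cases hg : g < 8
  · apply FiU6.toM_injective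
    rw [map_mul, map_one, show toM (uS g) = tm (v8 g) by simp only [uS, dif_pos hg]; rfl]
    exact FiU6.tm_sq (FiU6.hermB_of (FiU6.v8_ok ⟨g, hg⟩).1)
  · simp [uS, hg]

/-- The word of a conjugated generator. -/
def tWord (t : ℕ × List ℕ) : List ℕ := t.2.reverse ++ [t.1] ++ t.2

theorem toM_tWord {t : ℕ × List ℕ} (h1 : t.1 < 8) (h2 : ∀ g ∈ t.2, g < 8) :
    toM (wval uS (tWord t)) = tm (FiU6.vec (run t.2 (FiU6Data.vecCodes.getD t.1 0))) := by
  rw [tWord, wval_append, wval_append, show wval uS [t.1] = uS t.1 by simp [wval],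
    show wval uS t.2.reverse = (wval uS t.2)⁻¹ from ?_, ← mul_assoc, map_mul, map_mul,
    show toM (uS t.1) = tm (v8 t.1) by simp only [uS, dif_pos h1]; rfl, FiU6.conj_tm, ← run_spec t.2 h2]
  · rfl
  · refine eq_inv_of_mul_eq_one_left ?_
    generalize t.2 = w
    induction w with
    | nil => simp [wval]
    | cons g w ih =>
      rw [List.reverse_cons, wval_append, show wval uS [g] = uS g by simp [wval], wval,
        show uS g * wval uS w.reverse * (wval uS w * uS g) = uS g * (wval uS w.reverse * wval uS w) * uS g by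
          simp only [mul_assoc], ih, mul_one, uS_sq]

/-- A conjugated generator, the twisted one and the scalar between their vectors. -/
abbrev Twin : Type := (ℕ × List ℕ) × (ℕ × List ℕ) × Fin 4

/-- The word of a list of conjugated generators. -/
def srcWord (L : List Twin) : List ℕ := (L.map fun t => tWord t.1).flatten

/-- The word of the twisted list. -/
def dstWord (L : List Twin) : List ℕ := (L.map fun t => tWord t.2.1).flatten

/-- The check of a twin. -/
noncomputable def twinOK (t : Twin) : Bool :=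
  decide (t.1.1 < 8) && t.1.2.all (fun g => decide (g < 8)) && decide (t.2.1.1 < 8) &&
    t.2.1.2.all (fun g => decide (g < 8)) && decide (t.2.2 ≠ 0) &&
      decide (code (twv (FiU6.vec (run t.1.2 (FiU6Data.vecCodes.getD t.1.1 0)))) =
        code ((⟨t.2.2⟩ : K) • FiU6.vec (run t.2.1.2 (FiU6Data.vecCodes.getD t.2.1.1 0))))

theorem tw_twin {t : Twin} (h : twinOK t = true) : tw (wval pu (tWord t.1)) = wval pu (tWord t.2.1) := by
  simp only [twinOK, Bool.and_eq_true, List.all_eq_true, decide_eq_true_eq] at h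
  obtain ⟨⟨⟨⟨⟨a1, a2⟩, b1⟩, b2⟩, hc⟩, he⟩ := h
  rw [show pu = fun i => QuotientGroup.mk' (Subgroup.center SU6) (uS i) from rfl, ← wval_map, ← wval_map]
  rw [tw_mk]
  refine congrArg _ (FiU6.toM_injective ?_)
  rw [toM_twSU, toM_tWord a1 a2, toM_tWord b1 b2, tw_tm]
  have hvec := congrArg FiU6.vec he
  rw [(FiU6.vec_code _).1, (FiU6.vec_code _).1] at hvec
  rw [hvec, FiU6.tm_smul fun e => hc (congrArg G2Four.K4.v e)]

theorem tw_word : ∀ L : List Twin, L.all twinOK = true → tw (wval pu (srcWord L)) = wval pu (dstWord L) := by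
  intro L
  induction L with
  | nil => intro _; simp [srcWord, dstWord, wval]
  | cons t L ih =>
    intro h
    rw [List.all_cons, Bool.and_eq_true] at h
    show tw (wval pu (tWord t.1 ++ srcWord L)) = wval pu (tWord t.2.1 ++ dstWord L)
    rw [wval_append, wval_append, map_mul, ih h.2, tw_twin h.1]

end Cfsg.Agent.U62Mult
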